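import Groth.Agent.GalDual.Torsion
import Groth.Agent.DixBrauer.GalCover
import Mathlib.CategoryTheory.Sites.Point.Skyscraper
import Mathlib.FieldTheory.IsSepClosed
import Mathlib.FieldTheory.Normal.Defs

/-!
The sheaves `P L = j_! ℤ` of finite separable extensions: traces and exact sequences of Galois extensions.
-/

universe u

set_option linter.style.haveILetI false
set_option backward.isDefEq.respectTransparency.types false

open CategoryTheory CategoryTheory.Limits AlgebraicGeometry Opposite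

namespace Groth.Agent.DixBrauer.CohTriv

open GalCover

variable {K : Type u} [Field K]

/-- The étale object of an extension. -/
noncomputable abbrev obj (L : Type u) [Field L] [Algebra K L] [FiniteDimensional K L]
    [Algebra.IsSeparable K L] : (Spec (CommRingCat.of K)).Etale :=
  GalDual.objU (GalDual.fieldMap K L)

/-- The free sheaf of an extension. -/
noncomputable abbrev P (L : Type u) [Field L] [Algebra K L] [FiniteDimensional K L]
    [Algebra.IsSeparable K L] : EtCoh.Ab (Spec (CommRingCat.of K)) :=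
  GalDual.repZ (GalDual.fieldMap K L)

section

variable {L M N : Type u} [Field L] [Algebra K L] [FiniteDimensional K L] [Algebra.IsSeparable K L]
  [Field M] [Algebra K M] [FiniteDimensional K M] [Algebra.IsSeparable K M]
  [Field N] [Algebra K N] [FiniteDimensional K N] [Algebra.IsSeparable K N]

theorem secOf_repMap {G : EtCoh.Ab (Spec (CommRingCat.of K))} (τ : L →ₐ[K] M) (g : P L ⟶ G) :
    GalDual.secOf (GalDual.fieldMap K M) G (GalDual.repMap τ ≫ g) =
      rs G (GalDual.objMap τ) (GalDual.secOf (GalDual.fieldMap K L) G g) := by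
  rw [GalDual.secOf_comp, GalDual.repMap, Equiv.apply_symm_apply, GalDual.secOf_eq_app (GalDual.fieldMap K L) g]
  exact NatTrans.naturality_apply g.hom (GalDual.objMap τ).op _

theorem objMap_comp (τ : L →ₐ[K] M) (ρ : M →ₐ[K] N) :
    GalDual.objMap ρ ≫ GalDual.objMap τ = GalDual.objMap (ρ.comp τ) :=
  MorphismProperty.Over.Hom.ext (Spec.map_comp _ _).symm

theorem repMap_comp (τ : L →ₐ[K] M) (ρ : M →ₐ[K] N) :
    GalDual.repMap ρ ≫ GalDual.repMap τ = GalDual.repMap (ρ.comp τ) := by
  apply GalDual.hom_ext_sec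
  rw [secOf_repMap]
  conv_lhs => rw [← Category.comp_id (GalDual.repMap τ), secOf_repMap]
  rw [rs_comp, objMap_comp]
  conv_rhs => rw [← Category.comp_id (GalDual.repMap (ρ.comp τ)), secOf_repMap]

end

section stalks

variable {X : Scheme.{u}} {Ω : Type u} [Field Ω] [IsSepClosed Ω] (ξ : Spec (CommRingCat.of Ω) ⟶ X)

/-- Skyscraper sheaves. -/
noncomputable abbrev sky (M : AddCommGrpCat.{u + 1}) : EtCoh.Ab X :=
  (Scheme.pointSmallEtale ξ).skyscraperSheaf M

/-- The value of a section of a skyscraper sheaf at a point. -/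
noncomputable def val {M : AddCommGrpCat.{u + 1}} {U : X.Etale}
    (z : EtCoh.sect (sky ξ M) U) (v : (Scheme.pointSmallEtale ξ).fiber.obj U) : M :=
  (Pi.π (fun _ : (Scheme.pointSmallEtale ξ).fiber.obj U => M) v).hom z

theorem val_rs {M : AddCommGrpCat.{u + 1}} {U V : X.Etale} (f : V ⟶ U)
    (z : EtCoh.sect (sky ξ M) U) (v : (Scheme.pointSmallEtale ξ).fiber.obj V) :
    val ξ (rs (sky ξ M) f z) v = val ξ z ((Scheme.pointSmallEtale ξ).fiber.map f v) := by
  refine ConcreteCategory.congr_hom (?_ : ((sky ξ M).obj.map f.op) ≫ Pi.π _ v = Pi.π _ _) z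
  change ((Scheme.pointSmallEtale ξ).skyscraperPresheafFunctor.obj M).map f.op ≫ _ = _
  rw [GrothendieckTopology.Point.skyscraperPresheafFunctor_obj_map]
  exact (Pi.map'_comp_π _ _ _).trans (Category.comp_id _)

theorem val_ext {M : AddCommGrpCat.{u + 1}} {U : X.Etale} (z z' : EtCoh.sect (sky ξ M) U)
    (h : ∀ v, val ξ z v = val ξ z' v) : z = z' :=
  (Concrete.productEquiv (fun _ : (Scheme.pointSmallEtale ξ).fiber.obj U => M)).injective
    (funext fun v => (Concrete.productEquiv_apply_apply _ z v).trans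
      ((h v).trans (Concrete.productEquiv_apply_apply _ z' v).symm))

theorem exists_val {M : AddCommGrpCat.{u + 1}} (U : X.Etale)
    (f : (Scheme.pointSmallEtale ξ).fiber.obj U → M) :
    ∃ z : EtCoh.sect (sky ξ M) U, ∀ v, val ξ z v = f v :=
  ⟨(Concrete.productEquiv (fun _ : (Scheme.pointSmallEtale ξ).fiber.obj U => M)).symm f,
    fun v => Concrete.productEquiv_symm_apply_π _ f v⟩

end stalks

section test

variable {X : Scheme.{u}} {A B C : EtCoh.Ab X}

theorem mono_of_sky (f : A ⟶ B)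
    (h : ∀ (Ω : Type u) [Field Ω] [IsSepClosed Ω] (ξ : Spec (CommRingCat.of Ω) ⟶ X) (M : AddCommGrpCat.{u + 1})
      (g : A ⟶ sky ξ M), ∃ g' : B ⟶ sky ξ M, f ≫ g' = g) : Mono f := by
  refine (EtFound.mono_iff_stalks f).2 fun Ω _ _ ξ => ?_
  let adj := (Scheme.pointSmallEtale ξ).skyscraperSheafAdjunction (A := AddCommGrpCat.{u + 1})
  obtain ⟨g', hg'⟩ := h Ω ξ _ (adj.unit.app A)
  have h1 : (EtCoh.stalk ξ).map f ≫ (adj.homEquiv _ _).symm g' = 𝟙 _ := by
    refine (adj.homEquiv_naturality_left_symm f g').symm.trans ?_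
    rw [hg']
    exact (adj.homEquiv_symm_apply _ _ _).trans (adj.left_triangle_components A)
  intro a b hab
  have h2 := congrArg ((adj.homEquiv _ _).symm g').hom hab
  have ha := ConcreteCategory.congr_hom h1 a
  have hb := ConcreteCategory.congr_hom h1 b
  exact ha.symm.trans (h2.trans hb)

theorem exact_of_sky (f : A ⟶ B) (g : B ⟶ C) (w : f ≫ g = 0)
    (h : ∀ (Ω : Type u) [Field Ω] [IsSepClosed Ω] (ξ : Spec (CommRingCat.of Ω) ⟶ X) (M : AddCommGrpCat.{u + 1})
      (φ : B ⟶ sky ξ M), f ≫ φ = 0 → ∃ ψ : C ⟶ sky ξ M, g ≫ ψ = φ) :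
    (ShortComplex.mk f g w).Exact := by
  refine (EtFound.exact_iff_stalks _).2 fun Ω _ _ ξ => ?_
  let adj := (Scheme.pointSmallEtale ξ).skyscraperSheafAdjunction (A := AddCommGrpCat.{u + 1})
  let φ := adj.homEquiv _ _ (cokernel.π ((EtCoh.stalk ξ).map f))
  have h0 : f ≫ φ = 0 := by
    refine (adj.homEquiv_naturality_left f _).symm.trans ?_
    refine (congrArg (adj.homEquiv _ _) (cokernel.condition ((EtCoh.stalk ξ).map f))).trans ?_
    apply (adj.homEquiv _ _).symm.injective
    rw [Equiv.symm_apply_apply, Adjunction.homEquiv_counit, Functor.map_zero, zero_comp]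
  obtain ⟨ψ, hψ⟩ := h Ω ξ _ φ h0
  have h1 : (EtCoh.stalk ξ).map g ≫ (adj.homEquiv _ _).symm ψ = cokernel.π ((EtCoh.stalk ξ).map f) := by
    refine (adj.homEquiv_naturality_left_symm g ψ).symm.trans ?_
    rw [hψ]
    exact Equiv.symm_apply_apply _ _
  refine (ShortComplex.ab_exact_iff _).2 fun x hx => ?_
  refine (ShortComplex.ab_exact_iff _).1 (ShortComplex.exact_of_g_is_cokernel
    (ShortComplex.mk _ _ (cokernel.condition ((EtCoh.stalk ξ).map f))) (cokernelIsCokernel _)) x ?_
  refine (congrArg (fun φ : (EtCoh.stalk ξ).obj B ⟶ _ => φ x) h1).symm.trans ?_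
  exact (congrArg ((adj.homEquiv _ _).symm ψ) hx).trans (map_zero _)

theorem epi_of_sky (g : B ⟶ C)
    (h : ∀ (Ω : Type u) [Field Ω] [IsSepClosed Ω] (ξ : Spec (CommRingCat.of Ω) ⟶ X) (M : AddCommGrpCat.{u + 1})
      (φ : C ⟶ sky ξ M), g ≫ φ = 0 → φ = 0) : Epi g := by
  haveI := exact_of_sky g (0 : C ⟶ C) comp_zero fun Ω _ _ ξ M φ hφ => ⟨0, by rw [comp_zero, h Ω ξ M φ hφ]⟩
  exact (ShortComplex.exact_iff_epi _ rfl).1 this

end test

end Groth.Agent.DixBrauer.CohTriv
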