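import Groth.Agent.DixBrauer.CohTriv.Vanish

/-!
A criterion for `CT` in terms of sections over finite Galois extensions of the base field.
-/

universe u

set_option linter.style.haveILetI false
set_option linter.unusedSectionVars false
set_option backward.isDefEq.respectTransparency.types false

open CategoryTheory CategoryTheory.Limits CategoryTheory.Abelian AlgebraicGeometry Opposite

namespace Groth.Agent.DixBrauer.CohTriv

open GalCover

variable {K : Type u} [Field K]

variable (K) in
/-- The action of an automorphism on sections. -/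
noncomputable abbrev actS {E : Type u} [Field E] [Algebra K E] {M : Type u} [Field M] [Algebra K M]
    [FiniteDimensional K M] [Algebra.IsSeparable K M] [Algebra E M] [IsScalarTower K E M]
    (F : EtCoh.Ab (Spec (CommRingCat.of K))) (σ : M ≃ₐ[E] M) :
    EtCoh.sect F (obj (K := K) M) →+ EtCoh.sect F (obj (K := K) M) :=
  rs F (GalDual.objMap (σ.toAlgHom.restrictScalars K))

section

variable (E L M : Type u) [Field E] [Algebra K E] [FiniteDimensional K E] [Algebra.IsSeparable K E]
  [Field L] [Algebra K L] [FiniteDimensional K L] [Algebra.IsSeparable K L]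
  [Field M] [Algebra K M] [FiniteDimensional K M] [Algebra.IsSeparable K M]

variable [Algebra L M] [IsScalarTower K L M] [Normal L M]

/-- Invariant sections descend. -/
theorem exists_of_invariant (F : EtCoh.Ab (Spec (CommRingCat.of K))) (s : EtCoh.sect F (obj (K := K) M))
    (hs : ∀ σ : M ≃ₐ[L] M, actS K F σ s = s) : ∃ t, rs F (down K L M) t = s := by
  refine GalDual.sheaf_amalgamate F (down K L M)
    (fun _ => ⟨(default : Spec (CommRingCat.of M)), Subsingleton.elim (α := ↥(Spec (CommRingCat.of L))) _ _⟩) _ ?_
  intro W a b hab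
  refine GalDual.eq_of_germs F _ _ fun Ω _ _ ξ w => ?_
  let p := Scheme.pointSmallEtale ξ
  obtain ⟨σ, hσ⟩ := exists_mv ξ (v := p.fiber.map a w) (v' := p.fiber.map b w) (E := L) (L := M)
    ((map_map ξ a _ w).trans ((congrArg (fun m => p.fiber.map m w) hab).trans (map_map ξ b _ w).symm))
  refine (p.toPresheafFiber_w_apply a w F.obj s).trans (Eq.trans ?_ (p.toPresheafFiber_w_apply b w F.obj s).symm)
  rw [← hσ]
  refine Eq.trans ?_ (p.toPresheafFiber_w_apply (GalDual.objMap (σ.toAlgHom.restrictScalars K)) _ F.obj s)
  exact congrArg _ (hs σ).symm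

variable [Algebra E L] [IsScalarTower K E L] [Algebra E M] [IsScalarTower K E M] [IsScalarTower E L M]
  [FiniteDimensional E L] [FiniteDimensional L M] [FiniteDimensional E M] [Normal E L] [Normal E M]

set_option maxHeartbeats 1000000 in
/-- Transitivity of traces. -/
theorem trace_trans : trace (K := K) E L L ≫ trace L M M = trace E M M := by
  apply GalDual.hom_ext_sec
  apply rs_injective_down (E := E) (L := M)
  conv_rhs => rw [← Category.comp_id (trace E M M), secOf_trace_comp]
  have hda : IsScalarTower.toAlgHom K E M = (IsScalarTower.toAlgHom K L M).comp (IsScalarTower.toAlgHom K E L) :=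
    AlgHom.ext fun x => IsScalarTower.algebraMap_apply E L M x
  have hd : down K E M = down K L M ≫ down K E L :=
    (congrArg GalDual.objMap hda).trans (objMap_comp _ _).symm
  rw [hd, ← rs_comp, secOf_trace_comp, map_sum]
  let ext' : (L →ₐ[E] L) → (M ≃ₐ[E] M) := fun x => ((algEquivEquivAlgHom E L).symm x).liftNormal M
  have hext : ∀ (x : L →ₐ[E] L) (l : L), ext' x (algebraMap L M l) = algebraMap L M (x l) := fun x l =>
    (AlgEquiv.liftNormal_commutes _ M l).trans (congrArg (algebraMap L M)
      (congrArg (fun g : L →ₐ[E] L => g l) ((algEquivEquivAlgHom E L).apply_symm_apply x)))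
  have key : ∀ x : L →ₐ[E] L, rs (P (K := K) M) (down K L M)
      (rs (P (K := K) M) (GalDual.objMap (x.restrictScalars K)) (GalDual.secOf _ _ (trace L M M))) =
      ∑ ρ : M →ₐ[L] M, rs (P (K := K) M)
        (GalDual.objMap (((ext' x).toAlgHom.comp (ρ.restrictScalars E)).restrictScalars K)) (univ M) := by
    intro x
    rw [rs_comp, objMap_comp]
    have e : ((IsScalarTower.toAlgHom K L M).comp (x.restrictScalars K)) =
        (((ext' x).toAlgHom.restrictScalars K).comp (IsScalarTower.toAlgHom K L M)) :=
      AlgHom.ext fun l => (hext x l).symm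
    rw [e, ← objMap_comp, ← rs_comp]
    conv_lhs => rw [← Category.comp_id (trace L M M), secOf_trace_comp]
    rw [map_sum]
    refine Finset.sum_congr rfl fun ρ _ => ?_
    rw [rs_comp, objMap_comp]
    rfl
  refine (Finset.sum_congr rfl fun x _ => key x).trans ?_
  rw [← Finset.sum_product']
  refine Fintype.sum_bijective (fun q : (L →ₐ[E] L) × (M →ₐ[L] M) => (ext' q.1).toAlgHom.comp (q.2.restrictScalars E))
    ⟨?_, ?_⟩ _ _ fun q => rfl
  · rintro ⟨x, ρ⟩ ⟨x', ρ'⟩ h
    have h1 : x = x' := AlgHom.ext fun l => (algebraMap L M).injective (by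
      have := AlgHom.congr_fun h (algebraMap L M l)
      simp only [AlgHom.comp_apply, AlgHom.restrictScalars_apply, AlgHom.commutes] at this
      exact (hext x l).symm.trans (this.trans (hext x' l)))
    subst h1
    exact Prod.ext rfl (AlgHom.ext fun m => (ext' x).injective (AlgHom.congr_fun h m))
  · intro g
    let g' : M ≃ₐ[E] M := (algEquivEquivAlgHom E M).symm g
    have hg' : ∀ m, g' m = g m := fun m => congrArg (fun t : M →ₐ[E] M => t m) ((algEquivEquivAlgHom E M).apply_symm_apply g)
    let x : L →ₐ[E] L := (g'.restrictNormal L).toAlgHom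
    let ρ : M →ₐ[L] M :=
      { ((ext' x).symm.toAlgHom.comp g).toRingHom with
        commutes' := fun l => by
          show (ext' x).symm (g (algebraMap L M l)) = algebraMap L M l
          rw [← hg', ← AlgEquiv.restrictNormal_commutes g' L l, ← show ext' x (algebraMap L M l) =
            algebraMap L M (g'.restrictNormal L l) from hext x l, AlgEquiv.symm_apply_apply] }
    exact ⟨(x, ρ), AlgHom.ext fun m => (ext' x).apply_symm_apply (g m)⟩

end

variable {F : EtCoh.Ab (Spec (CommRingCat.of K))}

set_option maxHeartbeats 1000000 in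
/-- `CT` follows from norm surjectivity and Hilbert 90 at the finite Galois levels. -/
theorem CT.of_galois
    (hnorm : ∀ (E M : Type u) [Field E] [Algebra K E] [FiniteDimensional K E] [Algebra.IsSeparable K E]
      [Field M] [Algebra K M] [FiniteDimensional K M] [Algebra.IsSeparable K M] [Algebra E M]
      [IsScalarTower K E M] [FiniteDimensional E M] [IsGalois K M],
      ∀ b : EtCoh.sect F (obj (K := K) M), (∀ σ : M ≃ₐ[E] M, actS K F σ b = b) →
        ∃ c, ∑ σ : M ≃ₐ[E] M, actS K F σ c = b)
    (hcob : ∀ (E M : Type u) [Field E] [Algebra K E] [FiniteDimensional K E] [Algebra.IsSeparable K E]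
      [Field M] [Algebra K M] [FiniteDimensional K M] [Algebra.IsSeparable K M] [Algebra E M]
      [IsScalarTower K E M] [FiniteDimensional E M] [IsGalois K M],
      ∀ c : (M ≃ₐ[E] M) → EtCoh.sect F (obj (K := K) M),
        (∀ σ τ, c (τ * σ) = actS K F τ (c σ) + c τ) → ∃ b, ∀ σ, c σ = actS K F σ b - b) :
    CT F := by
  refine ⟨fun L _ _ _ _ => subsingleton_of_forall_eq 0 fun x => ?_, fun E L _ _ _ _ _ _ _ _ _ _ _ _ b => ?_⟩
  · obtain ⟨y, rfl⟩ := EtMVLib.exists_eq_comp_extClass x
    obtain ⟨φ, rfl⟩ := (Ext.mk₀_bijective _ _).2 y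
    let S := EtMVLib.injSES F
    have hS := EtMVLib.injSES_shortExact F
    obtain ⟨L', _, _, _, _, _, _, hL'⟩ := exists_dies_over L ((Ext.mk₀ φ).comp hS.extClass (zero_add 1))
    let M := IntermediateField.normalClosure K L' (SeparableClosure L')
    haveI : IsSepClosure K (SeparableClosure L') := ⟨inferInstance, Algebra.IsSeparable.trans K L' _⟩
    haveI : IsGalois K (SeparableClosure L') := IsSepClosure.isGalois
    haveI : IsGalois K M := IsGalois.normalClosure K L' (SeparableClosure L')
    let ι : L' →ₐ[K] M := (IsScalarTower.toAlgHom K L' (SeparableClosure L')).codRestrict M.toSubalgebra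
      fun x => AlgHom.fieldRange_le_normalClosure (IsScalarTower.toAlgHom K L' (SeparableClosure L')) ⟨x, rfl⟩
    letI : Algebra L M := (ι.toRingHom.comp (algebraMap L L')).toAlgebra
    haveI : IsScalarTower K L M := IsScalarTower.of_algebraMap_eq fun r => by
      show _ = ι (algebraMap L L' (algebraMap K L r))
      rw [← IsScalarTower.algebraMap_apply K L L', ι.commutes]
    haveI : FiniteDimensional L M := FiniteDimensional.right K L M
    haveI : Normal L M := Normal.tower_top_of_normal K L M
    have hcomp : GalDual.repMap ι ≫ iota K L L' = iota K L M := by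
      rw [repMap_comp]
      congr 1
    have hM : (Ext.mk₀ (iota K L M ≫ φ)).comp hS.extClass (zero_add 1) = 0 := by
      rw [← hcomp, Category.assoc, ← Ext.mk₀_comp_mk₀ (GalDual.repMap ι), ← Ext.mk₀_comp_mk₀ (iota K L L'),
        Ext.comp_assoc_of_second_deg_zero, Ext.comp_assoc_of_second_deg_zero, hL', Ext.comp_zero]
    obtain ⟨a0, ha0⟩ := Ext.covariant_sequence_exact₃ _ hS (Ext.mk₀ (iota K L M ≫ φ)) (rfl : 0 + 1 = 1) hM
    obtain ⟨α, rfl⟩ := (Ext.mk₀_bijective _ _).2 a0
    rw [Ext.mk₀_comp_mk₀] at ha0
    have hα : α ≫ S.g = iota K L M ≫ φ := (Ext.mk₀_bijective _ _).1 ha0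
    let sM := GalDual.secOf (GalDual.fieldMap K M)
    let a : EtCoh.sect S.X₂ (obj (K := K) M) := sM _ α
    have hga : (S.g.hom.app (op (obj (K := K) M))).hom a =
        rs S.X₃ (down K L M) (GalDual.secOf (GalDual.fieldMap K L) _ φ) := by
      rw [← secOf_repMap, ← hα, GalDual.secOf_comp]
    let d := fun σ : M ≃ₐ[L] M => actS K S.X₂ σ a - a
    have hd : ∀ σ, (S.g.hom.app (op (obj (K := K) M))).hom (d σ) = 0 := fun σ => by
      simp only [d, map_sub, actS, ← rs_nat, hga, rs_comp, objMap_comp]
      rw [sub_eq_zero]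
      exact congrArg (fun f => rs S.X₃ (GalDual.objMap f) (GalDual.secOf (GalDual.fieldMap K L) _ φ))
        (AlgHom.ext fun l => σ.commutes l)
    choose c hc using fun σ => FieldH1.exact_sections hS (obj (K := K) M) (d σ) (hd σ)
    haveI : Mono S.f := hS.mono_f
    have hcc : ∀ σ τ, c (τ * σ) = actS K F τ (c σ) + c τ := by
      intro σ τ
      refine SiteBase.sheaf_app_injective S.f _ ?_
      refine (hc (τ * σ)).trans ?_
      refine Eq.trans ?_ (map_add _ _ _).symm
      refine Eq.trans ?_ (congrArg (· + _) (rs_nat S.f _ (c σ)))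
      rw [hc, hc]
      simp only [d, actS, map_sub, rs_comp, objMap_comp]
      refine Eq.trans ?_ (sub_add_sub_cancel _ _ _).symm
      rfl
    obtain ⟨b, hb⟩ := hcob L M c hcc
    let a' := a - (S.f.hom.app (op (obj (K := K) M))).hom b
    have hinv : ∀ σ, actS K S.X₂ σ a' = a' := fun σ => by
      rw [← sub_eq_zero]
      have h1 := hc σ
      rw [hb σ, map_sub, actS, ← rs_nat] at h1
      simp only [a', map_sub, actS]
      refine Eq.trans ?_ (sub_eq_zero.2 h1.symm)
      simp only [d]
      abel
    obtain ⟨a₁, ha₁⟩ := exists_of_invariant L M S.X₂ a' hinv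
    have hfg : ((S.f.hom.app (op (obj (K := K) M))) ≫ S.g.hom.app (op (obj (K := K) M))).hom b = 0 :=
      congrArg (fun t : S.X₁ ⟶ S.X₃ => (t.hom.app (op (obj (K := K) M))).hom b) S.zero
    have hφ : (GalDual.secOf (GalDual.fieldMap K L) _).symm a₁ ≫ S.g = φ := by
      apply GalDual.hom_ext_sec
      rw [GalDual.secOf_comp, Equiv.apply_symm_apply]
      apply rs_injective_down (E := L) (L := M)
      rw [rs_nat, ha₁]
      show (S.g.hom.app (op (obj (K := K) M))).hom (a - _) = _
      rw [map_sub, hga]
      exact (congrArg (_ - ·) hfg).trans (sub_zero _)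
    rw [← hφ, ← Ext.mk₀_comp_mk₀, Ext.comp_assoc_of_second_deg_zero, hS.comp_extClass, Ext.comp_zero]
  · haveI : Algebra.IsSeparable K (SeparableClosure L) := Algebra.IsSeparable.trans K L _
    haveI : IsSepClosure K (SeparableClosure L) := ⟨inferInstance, inferInstance⟩
    haveI : IsGalois K (SeparableClosure L) := IsSepClosure.isGalois
    let M := IntermediateField.normalClosure K L (SeparableClosure L)
    haveI : IsGalois K M := IsGalois.normalClosure K L (SeparableClosure L)
    let ι : L →ₐ[K] M := (IsScalarTower.toAlgHom K L (SeparableClosure L)).codRestrict M.toSubalgebra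
      fun x => AlgHom.fieldRange_le_normalClosure (IsScalarTower.toAlgHom K L (SeparableClosure L)) ⟨x, rfl⟩
    letI : Algebra L M := ι.toRingHom.toAlgebra
    letI : Algebra E M := (ι.toRingHom.comp (algebraMap E L)).toAlgebra
    haveI : IsScalarTower K L M := IsScalarTower.of_algebraMap_eq fun r => (ι.commutes r).symm
    haveI : IsScalarTower K E M := IsScalarTower.of_algebraMap_eq fun r => by
      show _ = ι (algebraMap E L (algebraMap K E r))
      rw [← IsScalarTower.algebraMap_apply K E L, ι.commutes]
    haveI : IsScalarTower E L M := IsScalarTower.of_algebraMap_eq fun r => rfl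
    haveI : FiniteDimensional L M := FiniteDimensional.right K L M
    haveI : FiniteDimensional E M := FiniteDimensional.right K E M
    haveI : Normal L M := Normal.tower_top_of_normal K L M
    haveI : Normal E M := Normal.tower_top_of_normal K E M
    let y := rs F (down K E M) (GalDual.secOf (GalDual.fieldMap K E) F b)
    obtain ⟨c, hc⟩ := hnorm E M y fun σ => by
      simp only [y, actS, rs_comp, objMap_comp]
      exact congrArg (fun f => rs F (GalDual.objMap f) (GalDual.secOf (GalDual.fieldMap K E) F b))
        (AlgHom.ext fun e => σ.commutes e)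
    refine ⟨trace L M M ≫ (GalDual.secOf (GalDual.fieldMap K M) F).symm c, ?_⟩
    rw [← Category.assoc, trace_trans]
    apply GalDual.hom_ext_sec
    apply rs_injective_down (E := E) (L := M)
    rw [secOf_trace_comp, Equiv.apply_symm_apply]
    refine Eq.trans ?_ hc
    exact (Fintype.sum_equiv (algEquivEquivAlgHom E M).toEquiv _ _ fun x => rfl).symm

end Groth.Agent.DixBrauer.CohTriv
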