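import Groth.Agent.DixBrauer.CohTriv.Basic
import Groth.Agent.DixBrauer.CyclicGal
import Mathlib.FieldTheory.Galois.Basic

/-!
Traces between the sheaves `P L` and the exact sequences of a cyclic extension.
-/

universe u

set_option linter.style.haveILetI false
set_option backward.isDefEq.respectTransparency.types false

open CategoryTheory CategoryTheory.Limits AlgebraicGeometry Opposite

namespace Groth.Agent.DixBrauer.CohTriv

open GalCover

variable {K : Type u} [Field K]
variable (E L : Type u) [Field E] [Algebra K E] [FiniteDimensional K E] [Algebra.IsSeparable K E]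
  [Field L] [Algebra K L] [FiniteDimensional K L] [Algebra.IsSeparable K L]
  [Algebra E L] [IsScalarTower K E L]

variable (K) in
/-- The projection of an extension. -/
noncomputable abbrev down : obj (K := K) L ⟶ obj (K := K) E := GalDual.objMap (IsScalarTower.toAlgHom K E L)

variable (K) in
/-- The map of free sheaves of an extension. -/
noncomputable abbrev iota : P (K := K) L ⟶ P (K := K) E := GalDual.repMap (IsScalarTower.toAlgHom K E L)

variable {E L}

theorem rs_injective_down (G : EtCoh.Ab (Spec (CommRingCat.of K))) :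
    Function.Injective (rs G (down K E L)) := by
  intro x y hxy
  refine ext_of_local G _ x y fun _ => ⟨_, down K E L, (default : Spec (CommRingCat.of L)),
    Subsingleton.elim (α := ↥(Spec (CommRingCat.of E))) _ _, hxy⟩

variable {Ω : Type u} [Field Ω] [IsSepClosed Ω] (ξ : Spec (CommRingCat.of Ω) ⟶ Spec (CommRingCat.of K))

set_option linter.unusedSectionVars false

theorem map_map {U V W : (Spec (CommRingCat.of K)).Etale} (f : U ⟶ V) (g : V ⟶ W)
    (v : (Scheme.pointSmallEtale ξ).fiber.obj U) :
    (Scheme.pointSmallEtale ξ).fiber.map g ((Scheme.pointSmallEtale ξ).fiber.map f v) =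
      (Scheme.pointSmallEtale ξ).fiber.map (f ≫ g) v :=
  CategoryTheory.Over.OverMorphism.ext (Category.assoc _ _ _)

theorem exists_over_down (w : (Scheme.pointSmallEtale ξ).fiber.obj (obj (K := K) E)) :
    ∃ v, (Scheme.pointSmallEtale ξ).fiber.map (down K E L) v = w := by
  haveI : Algebra.IsSeparable E L := Algebra.isSeparable_tower_top_of_isSeparable K E L
  let β := Spec.preimage (w.left : Spec (CommRingCat.of Ω) ⟶ Spec (CommRingCat.of E))
  letI : Algebra E Ω := β.hom.toAlgebra
  let γ : L →ₐ[E] Ω := IsSepClosed.lift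
  have hγ : Spec.map (CommRingCat.ofHom γ.toRingHom) ≫ (down K E L).left = w.left := by
    refine Eq.trans ?_ (Spec.map_preimage (w.left : Spec (CommRingCat.of Ω) ⟶ Spec (CommRingCat.of E)))
    refine (Spec.map_comp _ _).symm.trans (congrArg Spec.map ?_)
    ext x
    exact γ.commutes x
  refine ⟨CategoryTheory.Over.homMk (Spec.map (CommRingCat.ofHom γ.toRingHom)) ?_, CategoryTheory.Over.OverMorphism.ext hγ⟩
  refine Eq.trans ?_ (CategoryTheory.Over.w w)
  rw [← hγ]
  exact ((Category.assoc _ _ _).trans (congrArg (_ ≫ ·) (MorphismProperty.Over.w (down K E L)))).symm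

/-- The action of the Galois group on geometric points. -/
noncomputable abbrev mv (σ : L ≃ₐ[E] L) (v : (Scheme.pointSmallEtale ξ).fiber.obj (obj (K := K) L)) :
    (Scheme.pointSmallEtale ξ).fiber.obj (obj (K := K) L) :=
  (Scheme.pointSmallEtale ξ).fiber.map (GalDual.objMap (σ.toAlgHom.restrictScalars K)) v

theorem mv_mv (σ τ : L ≃ₐ[E] L) (v : (Scheme.pointSmallEtale ξ).fiber.obj (obj (K := K) L)) :
    mv ξ σ (mv ξ τ v) = mv ξ (τ * σ) v :=
  (map_map ξ _ _ v).trans
    (congrArg (fun m => (Scheme.pointSmallEtale ξ).fiber.map m v) (objMap_comp _ _))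

theorem mv_one (v : (Scheme.pointSmallEtale ξ).fiber.obj (obj (K := K) L)) :
    mv ξ (1 : L ≃ₐ[E] L) v = v :=
  CategoryTheory.Over.OverMorphism.ext ((congrArg (_ ≫ ·) (Spec.map_id _)).trans (Category.comp_id _))

theorem down_mv (σ : L ≃ₐ[E] L) (v : (Scheme.pointSmallEtale ξ).fiber.obj (obj (K := K) L)) :
    (Scheme.pointSmallEtale ξ).fiber.map (down K E L) (mv ξ σ v) =
      (Scheme.pointSmallEtale ξ).fiber.map (down K E L) v := by
  refine (map_map ξ _ _ v).trans
    (congrArg (fun m => (Scheme.pointSmallEtale ξ).fiber.map m v) ?_)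
  rw [objMap_comp]
  congr 1
  exact AlgHom.ext fun x => σ.commutes x

/-- The ring map of a geometric point. -/
noncomputable abbrev ptHom (v : (Scheme.pointSmallEtale ξ).fiber.obj (obj (K := K) L)) : L →+* Ω :=
  (Spec.preimage (v.left : Spec (CommRingCat.of Ω) ⟶ Spec (CommRingCat.of L))).hom

theorem ptHom_ext {v v' : (Scheme.pointSmallEtale ξ).fiber.obj (obj (K := K) L)}
    (h : ∀ x, ptHom ξ v x = ptHom ξ v' x) : v = v' := by
  refine CategoryTheory.Over.OverMorphism.ext ?_
  refine (Spec.map_preimage _).symm.trans (Eq.trans (congrArg Spec.map ?_) (Spec.map_preimage _))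
  exact CommRingCat.hom_ext (RingHom.ext h)

theorem ptHom_map {L' : Type u} [Field L'] [Algebra K L'] [FiniteDimensional K L'] [Algebra.IsSeparable K L']
    (τ : L' →ₐ[K] L) (v : (Scheme.pointSmallEtale ξ).fiber.obj (obj (K := K) L)) (x : L') :
    ptHom ξ ((Scheme.pointSmallEtale ξ).fiber.map (GalDual.objMap τ) v) x = ptHom ξ v (τ x) := by
  have h : Spec.preimage ((v.left : Spec (CommRingCat.of Ω) ⟶ Spec (CommRingCat.of L)) ≫
      Spec.map (CommRingCat.ofHom τ.toRingHom)) = CommRingCat.ofHom τ.toRingHom ≫
      Spec.preimage (v.left : Spec (CommRingCat.of Ω) ⟶ Spec (CommRingCat.of L)) := by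
    apply Spec.map_injective
    rw [Spec.map_preimage, Spec.map_comp, Spec.map_preimage]
    rfl
  exact ConcreteCategory.congr_hom h x

theorem mv_injective (v : (Scheme.pointSmallEtale ξ).fiber.obj (obj (K := K) L)) :
    Function.Injective fun σ : L ≃ₐ[E] L => mv ξ σ v := by
  intro σ τ h
  refine AlgEquiv.ext fun x => (ptHom ξ v).injective ?_
  have := congrArg (fun w => ptHom ξ w x) h
  simp only [mv, ptHom_map] at this
  exact this

theorem exists_mv [Normal E L] {v v' : (Scheme.pointSmallEtale ξ).fiber.obj (obj (K := K) L)}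
    (h : (Scheme.pointSmallEtale ξ).fiber.map (down K E L) v = (Scheme.pointSmallEtale ξ).fiber.map (down K E L) v') :
    ∃ σ : L ≃ₐ[E] L, mv ξ σ v = v' := by
  letI : Algebra L Ω := (ptHom ξ v).toAlgebra
  letI : Algebra E Ω := ((ptHom ξ v).comp (algebraMap E L)).toAlgebra
  haveI : IsScalarTower E L Ω := IsScalarTower.of_algebraMap_eq fun x => rfl
  let φ : L →ₐ[E] Ω :=
    { ptHom ξ v' with
      commutes' := fun x => by
        have e := congrArg (fun w => ptHom ξ w x) h
        simp only [ptHom_map] at e
        exact e.symm }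
  refine ⟨φ.restrictNormal' L, ptHom_ext ξ fun x => ?_⟩
  rw [ptHom_map]
  exact φ.restrictNormal_commutes L x

end Groth.Agent.DixBrauer.CohTriv
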