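import Groth.Agent.DixBrauer.CohTriv.Galois

/-!
Exact sequences between the sheaves `P L` for a cyclic extension.
-/

universe u

set_option linter.style.haveILetI false
set_option linter.unusedSectionVars false
set_option backward.isDefEq.respectTransparency.types false

open CategoryTheory CategoryTheory.Limits AlgebraicGeometry Opposite

namespace Groth.Agent.DixBrauer.CohTriv

open GalCover

variable {K : Type u} [Field K]
variable (E L : Type u) [Field E] [Algebra K E] [FiniteDimensional K E] [Algebra.IsSeparable K E]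
  [Field L] [Algebra K L] [FiniteDimensional K L] [Algebra.IsSeparable K L]
  [Algebra E L] [IsScalarTower K E L] [FiniteDimensional E L]

/-- The universal section. -/
noncomputable abbrev univ : EtCoh.sect (P (K := K) L) (obj (K := K) L) :=
  GalDual.univSec (GalDual.fieldMap K L)

theorem rs_univ {G : EtCoh.Ab (Spec (CommRingCat.of K))} {U : (Spec (CommRingCat.of K)).Etale}
    (g : P (K := K) L ⟶ G) (f : U ⟶ obj (K := K) L) :
    (g.hom.app (op U)).hom (rs (P (K := K) L) f (univ L)) =
      rs G f (GalDual.secOf (GalDual.fieldMap K L) G g) := by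
  rw [GalDual.secOf_eq_app (GalDual.fieldMap K L) g]
  exact NatTrans.naturality_apply g.hom f.op _

section trace

variable (M : Type u) [Field M] [Algebra K M] [FiniteDimensional K M] [Algebra.IsSeparable K M]
  [Algebra E M] [IsScalarTower K E M] [Normal E M]

theorem exists_trace : ∃ t : EtCoh.sect (P (K := K) L) (obj (K := K) E), rs (P (K := K) L) (down K E M) t =
    ∑ τ : L →ₐ[E] M, rs (P (K := K) L) (GalDual.objMap (τ.restrictScalars K)) (univ L) := by
  refine GalDual.sheaf_amalgamate (P (K := K) L) (down K E M)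
    (fun _ => ⟨(default : Spec (CommRingCat.of M)), Subsingleton.elim (α := ↥(Spec (CommRingCat.of E))) _ _⟩) _ ?_
  intro W a b hab
  refine GalDual.eq_of_germs (P (K := K) L) _ _ fun Ω _ _ ξ w => ?_
  let p := Scheme.pointSmallEtale ξ
  simp only [map_sum]
  have key : ∀ (c : W ⟶ obj (K := K) M) (τ : L →ₐ[E] M),
      p.toPresheafFiber W w (P (K := K) L).obj (((P (K := K) L).obj.map c.op).hom
          (rs (P (K := K) L) (GalDual.objMap (τ.restrictScalars K)) (univ L))) =
        p.toPresheafFiber _ (p.fiber.map (GalDual.objMap (τ.restrictScalars K)) (p.fiber.map c w))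
          (P (K := K) L).obj (univ L) := fun c τ =>
    (p.toPresheafFiber_w_apply c w (P (K := K) L).obj _).trans
      (p.toPresheafFiber_w_apply (GalDual.objMap (τ.restrictScalars K)) _ (P (K := K) L).obj _)
  refine (Finset.sum_congr rfl fun τ _ => key a τ).trans
    (Eq.trans ?_ (Finset.sum_congr rfl fun τ _ => key b τ).symm)
  obtain ⟨ρ, hρ⟩ := exists_mv ξ (v := p.fiber.map a w) (v' := p.fiber.map b w) (E := E) (L := M)
    ((map_map ξ a _ w).trans ((congrArg (fun m => p.fiber.map m w) hab).trans (map_map ξ b _ w).symm))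
  refine Fintype.sum_equiv (AlgEquiv.arrowCongr (AlgEquiv.refl : L ≃ₐ[E] L) ρ.symm) _ _ fun τ => ?_
  refine congrArg (fun z => p.toPresheafFiber _ z (P (K := K) L).obj (univ L)) ?_
  rw [← hρ]
  refine Eq.trans ?_ (map_map ξ _ _ (p.fiber.map a w)).symm
  rw [objMap_comp]
  refine congrArg (fun f => p.fiber.map (GalDual.objMap f) (p.fiber.map a w)) (AlgHom.ext fun x => ?_)
  exact (ρ.apply_symm_apply (τ x)).symm

/-- The trace. -/
noncomputable def trace : P (K := K) E ⟶ P (K := K) L :=
  (GalDual.secOf (GalDual.fieldMap K E) (P (K := K) L)).symm (exists_trace E L M).choose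

theorem secOf_trace_comp {G : EtCoh.Ab (Spec (CommRingCat.of K))} (g : P (K := K) L ⟶ G) :
    rs G (down K E M) (GalDual.secOf (GalDual.fieldMap K E) G (trace E L M ≫ g)) =
      ∑ τ : L →ₐ[E] M, rs G (GalDual.objMap (τ.restrictScalars K))
        (GalDual.secOf (GalDual.fieldMap K L) G g) := by
  rw [GalDual.secOf_comp, trace, Equiv.apply_symm_apply]
  refine (NatTrans.naturality_apply g.hom (down K E M).op _).symm.trans ?_
  refine (congrArg _ (exists_trace E L M).choose_spec).trans ?_
  rw [map_sum]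
  exact Finset.sum_congr rfl fun τ _ => rs_univ L g _

theorem secOf_nsmul {G : EtCoh.Ab (Spec (CommRingCat.of K))} (g : P (K := K) E ⟶ G) (d : ℕ) :
    GalDual.secOf (GalDual.fieldMap K E) G (d • g) = d • GalDual.secOf (GalDual.fieldMap K E) G g := by
  rw [GalDual.secOf_eq_app, GalDual.secOf_eq_app]
  induction d with
  | zero => rw [zero_smul, zero_smul]; rfl
  | succ d ih => rw [succ_nsmul, succ_nsmul, ← ih]; rfl

theorem trace_iota (ι : L →ₐ[E] M) :
    trace E L M ≫ iota K E L = Module.finrank E L • 𝟙 (P (K := K) E) := by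
  haveI : Algebra.IsSeparable E L := Algebra.isSeparable_tower_top_of_isSeparable K E L
  have hcard : Fintype.card (L →ₐ[E] M) = Module.finrank E L := by
    refine AlgHom.card_of_splits E L M fun x => ?_
    have h := (inferInstance : Normal E M).splits (ι x)
    rwa [minpoly.algHom_eq ι ι.injective] at h
  apply GalDual.hom_ext_sec
  apply rs_injective_down (E := E) (L := M)
  rw [secOf_trace_comp, secOf_nsmul, map_nsmul, ← hcard, ← Finset.card_univ, ← Finset.sum_const]
  refine Finset.sum_congr rfl fun τ _ => ?_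
  conv_lhs => rw [← Category.comp_id (iota K E L), secOf_repMap, rs_comp, objMap_comp]
  exact congrArg (fun f => rs (P (K := K) E) (GalDual.objMap f) (univ E)) (AlgHom.ext fun x => τ.commutes x)

end trace

section cyclic

variable [Normal E L] (σ : L ≃ₐ[E] L)

variable (K) in
/-- The difference map. -/
noncomputable abbrev dd : P (K := K) L ⟶ P (K := K) L :=
  GalDual.repMap (σ.toAlgHom.restrictScalars K) - 𝟙 _

theorem secOf_dd {G : EtCoh.Ab (Spec (CommRingCat.of K))} (g : P (K := K) L ⟶ G) :
    GalDual.secOf (GalDual.fieldMap K L) G (dd K E L σ ≫ g) =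
      rs G (GalDual.objMap (σ.toAlgHom.restrictScalars K)) (GalDual.secOf (GalDual.fieldMap K L) G g) -
        GalDual.secOf (GalDual.fieldMap K L) G g := by
  rw [Preadditive.sub_comp, Category.id_comp, ← secOf_repMap, GalDual.secOf_eq_app, GalDual.secOf_eq_app,
    GalDual.secOf_eq_app]
  rfl

theorem dd_iota : dd K E L σ ≫ iota K E L = 0 := by
  rw [Preadditive.sub_comp, Category.id_comp, repMap_comp, sub_eq_zero]
  congr 1
  exact AlgHom.ext fun x => σ.commutes x

theorem trace_dd : trace E L L ≫ dd K E L σ = 0 := by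
  apply GalDual.hom_ext_sec
  apply rs_injective_down (E := E) (L := L)
  rw [secOf_trace_comp]
  conv_lhs => rw [← Category.comp_id (dd K E L σ), secOf_dd]
  simp only [map_sub, rs_comp, objMap_comp]
  rw [Finset.sum_sub_distrib]
  refine Eq.trans ?_ ((congrArg _ (GalDual.secOf_eq_app _ 0)).trans (map_zero _)).symm
  rw [sub_eq_zero]
  exact Fintype.sum_equiv (AlgEquiv.arrowCongr σ.symm (AlgEquiv.refl : L ≃ₐ[E] L)) _ _ fun τ => by
    congr 2

variable {E L σ}

variable {Ω : Type u} [Field Ω] [IsSepClosed Ω] {ξ : Spec (CommRingCat.of Ω) ⟶ Spec (CommRingCat.of K)}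
  {N : AddCommGrpCat.{u + 1}}

variable (E) in
theorem val_trace (g : P (K := K) L ⟶ sky ξ N) (v : (Scheme.pointSmallEtale ξ).fiber.obj (obj (K := K) L)) :
    val ξ (GalDual.secOf (GalDual.fieldMap K E) _ (trace E L L ≫ g))
      ((Scheme.pointSmallEtale ξ).fiber.map (down K E L) v) =
      ∑ x : L ≃ₐ[E] L, val ξ (GalDual.secOf (GalDual.fieldMap K L) _ g) (mv ξ x v) := by
  rw [← val_rs, secOf_trace_comp]
  let ev : EtCoh.sect (sky ξ N) (obj (K := K) L) →+ N :=
    (Pi.π (fun _ : (Scheme.pointSmallEtale ξ).fiber.obj (obj (K := K) L) => N) v).hom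
  refine (map_sum ev _ _).trans ?_
  refine (Fintype.sum_equiv (algEquivEquivAlgHom E L).toEquiv _ _ fun x => ?_).symm
  exact (val_rs ξ _ _ v).symm

theorem epi_iota : Epi (iota K E L) where
  left_cancellation g h e := by
    have e' := congrArg (GalDual.secOf (GalDual.fieldMap K L) _) e
    rw [secOf_repMap, secOf_repMap] at e'
    exact GalDual.hom_ext_sec _ (rs_injective_down (E := E) (L := L) _ e')

variable (hσ : ∀ x : L ≃ₐ[E] L, x ∈ Subgroup.zpowers σ)

include hσ in
theorem exact_dd_iota : (ShortComplex.mk _ _ (dd_iota (K := K) E L σ)).Exact := by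
  refine exact_of_sky _ _ _ fun Ω _ _ ξ N φ hφ => ?_
  let y := val ξ (GalDual.secOf (GalDual.fieldMap K L) _ φ)
  have h1 : ∀ v, y (mv ξ σ v) = y v := fun v => by
    have h := (secOf_dd (K := K) E L σ φ).symm.trans
      ((congrArg _ hφ).trans (GalDual.secOf_eq_app (GalDual.fieldMap K L) 0))
    have h' : rs (sky ξ N) (GalDual.objMap (σ.toAlgHom.restrictScalars K)) (GalDual.secOf _ _ φ) =
        GalDual.secOf _ _ φ := sub_eq_zero.1 h
    exact (val_rs ξ _ _ v).symm.trans (congrArg (fun z => val ξ z v) h')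
  have h2 : ∀ (i : ℕ) v, y (mv ξ (σ ^ i) v) = y v := by
    intro i
    induction i with
    | zero => intro v; rw [pow_zero, mv_one]
    | succ i ih => intro v; rw [pow_succ, ← mv_mv, h1, ih]
  choose sec hsec using fun w => exists_over_down (K := K) (E := E) (L := L) ξ w
  obtain ⟨z, hz⟩ := exists_val ξ (M := N) (obj (K := K) E) fun w => y (sec w)
  refine ⟨(GalDual.secOf (GalDual.fieldMap K E) _).symm z, GalDual.hom_ext_sec _ (val_ext ξ _ _ fun v => ?_)⟩
  rw [secOf_repMap, Equiv.apply_symm_apply, val_rs, hz]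
  obtain ⟨x, hx⟩ := exists_mv ξ (E := E) (hsec ((Scheme.pointSmallEtale ξ).fiber.map (down K E L) v))
  obtain ⟨i, rfl⟩ := (IsOfFinOrder.mem_powers_iff_mem_zpowers (isOfFinOrder_of_finite σ)).2 (hσ x)
  conv_rhs => rw [← hx]
  exact (h2 i _).symm

theorem mono_trace : Mono (trace (K := K) E L L) := by
  classical
  refine mono_of_sky _ fun Ω _ _ ξ N g => ?_
  choose sec hsec using fun w => exists_over_down (K := K) (E := E) (L := L) ξ w
  let z := val ξ (GalDual.secOf (GalDual.fieldMap K E) _ g)
  obtain ⟨y, hy⟩ := exists_val ξ (M := N) (obj (K := K) L) fun v =>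
    if sec ((Scheme.pointSmallEtale ξ).fiber.map (down K E L) v) = v then
      z ((Scheme.pointSmallEtale ξ).fiber.map (down K E L) v) else 0
  refine ⟨(GalDual.secOf (GalDual.fieldMap K L) _).symm y, GalDual.hom_ext_sec _ (val_ext ξ _ _ fun w => ?_)⟩
  rw [← hsec w, val_trace, Equiv.apply_symm_apply, Finset.sum_eq_single 1]
  · rw [hy, mv_one, hsec, if_pos rfl]
  · intro x _ hx
    rw [hy, down_mv, hsec, if_neg]
    exact fun h => hx (mv_injective ξ (sec w) (h.symm.trans (mv_one ξ _).symm))
  · exact fun h => absurd (Finset.mem_univ _) h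

include hσ in
theorem exact_trace_dd : (ShortComplex.mk _ _ (trace_dd (K := K) E L σ)).Exact := by
  refine exact_of_sky _ _ _ fun Ω _ _ ξ N φ hφ => ?_
  choose sec hsec using fun w => exists_over_down (K := K) (E := E) (L := L) ξ w
  let y := val ξ (GalDual.secOf (GalDual.fieldMap K L) _ φ)
  have hsum : ∀ w, ∑ x : L ≃ₐ[E] L, y (mv ξ x (sec w)) = 0 := fun w => by
    rw [← val_trace, hφ]
    exact (congrArg (fun z => val ξ z _) (GalDual.secOf_eq_app (GalDual.fieldMap K E) 0)).trans (map_zero _)
  choose t ht using fun w => CyclicGal.exists_telescope σ hσ (fun x => y (mv ξ x (sec w))) (hsum w)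
  choose idx hidx using fun v => exists_mv ξ (E := E) (hsec ((Scheme.pointSmallEtale ξ).fiber.map (down K E L) v))
  obtain ⟨e, he⟩ := exists_val ξ (M := N) (obj (K := K) L) fun v =>
    t ((Scheme.pointSmallEtale ξ).fiber.map (down K E L) v) (idx v)
  refine ⟨(GalDual.secOf (GalDual.fieldMap K L) _).symm e, GalDual.hom_ext_sec _ (val_ext ξ _ _ fun v => ?_)⟩
  rw [secOf_dd, Equiv.apply_symm_apply]
  refine (map_sub (Pi.π (fun _ : (Scheme.pointSmallEtale ξ).fiber.obj (obj (K := K) L) => N) v).hom _ _).trans ?_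
  show val ξ (rs _ _ e) v - val ξ e v = y v
  have hi : idx (mv ξ σ v) = idx v * σ := by
    refine mv_injective ξ (sec ((Scheme.pointSmallEtale ξ).fiber.map (down K E L) v)) ?_
    show mv ξ (idx (mv ξ σ v)) _ = mv ξ (idx v * σ) _
    rw [← mv_mv, hidx v]
    conv_rhs => rw [← hidx (mv ξ σ v), down_mv]
  rw [val_rs, he, he, down_mv, hi, ht]
  exact congrArg y (hidx v)

end cyclic

end Groth.Agent.DixBrauer.CohTriv
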