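import Groth.Agent.DixBrauer.CohTriv.Seq
import Groth.Agent.CdLib.Devissage
import Mathlib.GroupTheory.PGroup
import Mathlib.GroupTheory.Sylow
import Mathlib.GroupTheory.Perm.Cycle.Type

/-!
Sheaves on a field with vanishing `H¹` and surjective traces at all finite levels have no cohomology in
positive degrees.
-/

universe u

set_option linter.style.haveILetI false
set_option linter.unusedSectionVars false
set_option backward.isDefEq.respectTransparency.types false

open CategoryTheory CategoryTheory.Limits CategoryTheory.Abelian AlgebraicGeometry Opposite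

namespace Groth.Agent.DixBrauer.CohTriv

open GalCover

variable {K : Type u} [Field K]

/-- `H¹` vanishes and traces are surjective at all finite levels. -/
structure CT (F : EtCoh.Ab (Spec (CommRingCat.of K))) : Prop where
  h1 : ∀ (L : Type u) [Field L] [Algebra K L] [FiniteDimensional K L] [Algebra.IsSeparable K L],
    Subsingleton (Ext (P (K := K) L) F 1)
  norm : ∀ (E L : Type u) [Field E] [Algebra K E] [FiniteDimensional K E] [Algebra.IsSeparable K E]
    [Field L] [Algebra K L] [FiniteDimensional K L] [Algebra.IsSeparable K L]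
    [Algebra E L] [IsScalarTower K E L] [FiniteDimensional E L] [IsGalois E L],
    ∀ b : P (K := K) E ⟶ F, ∃ c : P (K := K) L ⟶ F, trace E L L ≫ c = b

variable {F : EtCoh.Ab (Spec (CommRingCat.of K))}

set_option maxHeartbeats 1000000 in
/-- The periodicity argument for a cyclic extension. -/
theorem eq_zero_of_cyclic (hF : CT F) (E L : Type u) [Field E] [Algebra K E] [FiniteDimensional K E]
    [Algebra.IsSeparable K E] [Field L] [Algebra K L] [FiniteDimensional K L] [Algebra.IsSeparable K L]
    [Algebra E L] [IsScalarTower K E L] [FiniteDimensional E L] [IsGalois E L]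
    (σ : L ≃ₐ[E] L) (hσ : ∀ x : L ≃ₐ[E] L, x ∈ Subgroup.zpowers σ)
    (α : Ext (P (K := K) E) F 2) (hα : (Ext.mk₀ (iota K E L)).comp α (zero_add 2) = 0) : α = 0 := by
  let i := iota K E L
  haveI : Epi i := epi_iota
  let S₁ := ShortComplex.mk (kernel.ι i) i (kernel.condition i)
  have hS₁ : S₁.ShortExact :=
    { exact := ShortComplex.exact_of_f_is_kernel _ (kernelIsKernel i) }
  let d' : P (K := K) L ⟶ kernel i := kernel.lift i (dd K E L σ) (dd_iota E L σ)
  have hd' : d' ≫ kernel.ι i = dd K E L σ := kernel.lift_ι _ _ _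
  haveI : Epi d' := (ShortComplex.exact_iff_epi_kernel_lift _).1 (exact_dd_iota hσ)
  have hz : trace E L L ≫ d' = 0 := by
    rw [← cancel_mono (kernel.ι i), Category.assoc, hd', trace_dd, zero_comp]
  let S₂ := ShortComplex.mk (trace E L L) d' hz
  have hS₂ : S₂.ShortExact := by
    refine ShortComplex.ShortExact.mk' ?_ mono_trace inferInstance
    let φ : S₂ ⟶ ShortComplex.mk _ _ (trace_dd (K := K) E L σ) :=
      { τ₁ := 𝟙 _, τ₂ := 𝟙 _, τ₃ := kernel.ι i
        comm₁₂ := (Category.id_comp _).trans (Category.comp_id _).symm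
        comm₂₃ := (Category.id_comp _).trans hd'.symm }
    haveI : Epi φ.τ₁ := inferInstanceAs (Epi (𝟙 _))
    haveI : IsIso φ.τ₂ := inferInstanceAs (IsIso (𝟙 _))
    haveI : Mono φ.τ₃ := inferInstanceAs (Mono (kernel.ι i))
    exact (ShortComplex.exact_iff_of_epi_of_isIso_of_mono φ).2 (exact_trace_dd hσ)
  obtain ⟨η, rfl⟩ := Ext.contravariant_sequence_exact₃ hS₁ F α hα (rfl : 1 + 1 = 2)
  obtain ⟨b, rfl⟩ := Ext.contravariant_sequence_exact₃ hS₂ F η ((hF.h1 L).elim _ _) (rfl : 1 + 0 = 1)
  obtain ⟨b', rfl⟩ := (Ext.mk₀_bijective _ _).2 b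
  obtain ⟨c, rfl⟩ := hF.norm E L b'
  have h0 : hS₂.extClass.comp (Ext.mk₀ (trace E L L ≫ c)) (rfl : 1 + 0 = 1) = 0 := by
    rw [← Ext.mk₀_comp_mk₀]
    erw [← Ext.comp_assoc_of_second_deg_zero, hS₂.extClass_comp, Ext.zero_comp]
  rw [h0, Ext.comp_zero]

theorem iota_trans (E E' L : Type u) [Field E] [Algebra K E] [FiniteDimensional K E] [Algebra.IsSeparable K E]
    [Field E'] [Algebra K E'] [FiniteDimensional K E'] [Algebra.IsSeparable K E']
    [Field L] [Algebra K L] [FiniteDimensional K L] [Algebra.IsSeparable K L]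
    [Algebra E E'] [IsScalarTower K E E'] [Algebra E' L] [IsScalarTower K E' L]
    [Algebra E L] [IsScalarTower K E L] [IsScalarTower E E' L] :
    iota K E' L ≫ iota K E E' = iota K E L := by
  rw [repMap_comp]
  congr 1
  exact AlgHom.ext fun x => (IsScalarTower.algebraMap_apply E E' L x).symm

theorem eq_zero_of_isPGroup (hF : CT F) (p : ℕ) [hp : Fact p.Prime] :
    ∀ (N : ℕ) (E M : Type u) [Field E] [Algebra K E] [FiniteDimensional K E] [Algebra.IsSeparable K E]
      [Field M] [Algebra K M] [FiniteDimensional K M] [Algebra.IsSeparable K M]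
      [Algebra E M] [IsScalarTower K E M] [FiniteDimensional E M] [IsGalois E M],
      Module.finrank E M = N → IsPGroup p (M ≃ₐ[E] M) →
      ∀ α : Ext (P (K := K) E) F 2, (Ext.mk₀ (iota K E M)).comp α (zero_add 2) = 0 → α = 0 := by
  intro N
  induction N using Nat.strong_induction_on with
  | _ N ih =>
    intro E M _ _ _ _ _ _ _ _ _ _ _ _ hN hP α hα
    rcases subsingleton_or_nontrivial (M ≃ₐ[E] M) with hs | hnt
    · exact eq_zero_of_cyclic hF E M 1 (fun τ => by rw [Subsingleton.elim τ 1]; exact one_mem _) α hα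
    · haveI := hP.center_nontrivial
      obtain ⟨z, hz⟩ := exists_ne (1 : Subgroup.center (M ≃ₐ[E] M))
      let H := Subgroup.zpowers (z : M ≃ₐ[E] M)
      haveI hHn : H.Normal := by
        refine ⟨fun h hh g => ?_⟩
        obtain ⟨i, rfl⟩ := hh
        have hc : g * (z : M ≃ₐ[E] M) ^ i = (z : M ≃ₐ[E] M) ^ i * g :=
          Subgroup.mem_center_iff.1 (zpow_mem z.2 i) g
        rw [hc, mul_inv_cancel_right]
        exact Subgroup.mem_zpowers_iff.2 ⟨i, rfl⟩
      let E' := IntermediateField.fixedField H
      haveI : IsGalois E E' := IsGalois.of_fixedField_normal_subgroup H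
      haveI : IsGalois E' M := IsGalois.tower_top_of_isGalois E E' M
      haveI : IsScalarTower K E' M := IsScalarTower.of_algebraMap_eq fun x =>
        rfl
      haveI : FiniteDimensional K E' := FiniteDimensional.trans K E E'
      haveI : Algebra.IsSeparable K E' := Algebra.isSeparable_tower_bot_of_isSeparable K E' M
      have hlt : Module.finrank E E' < N := by
        have hmul := Module.finrank_mul_finrank E E' M
        have h2 : 1 < Module.finrank E' M := by
          rw [IntermediateField.finrank_fixedField_eq_card, Nat.card_zpowers]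
          have h1 : orderOf (z : M ≃ₐ[E] M) ≠ 1 := fun h => hz (Subtype.ext (orderOf_eq_one_iff.1 h))
          have h0 := orderOf_pos (z : M ≃ₐ[E] M)
          omega
        rw [← hN, ← hmul]
        exact lt_mul_of_one_lt_right Module.finrank_pos h2
      have hE' : (Ext.mk₀ (iota K E E')).comp α (zero_add 2) = 0 := by
        let gen : M ≃ₐ[E'] M := (IntermediateField.fixingSubgroupEquiv E')
          ⟨z, by rw [IntermediateField.fixingSubgroup_fixedField]; exact Subgroup.mem_zpowers _⟩
        refine eq_zero_of_cyclic hF E' M gen (fun τ => ?_) _ ?_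
        · have hτ : ((IntermediateField.fixingSubgroupEquiv E').symm τ : M ≃ₐ[E] M) ∈ H :=
            SetLike.le_def.1 (IntermediateField.fixingSubgroup_fixedField H).le
              ((IntermediateField.fixingSubgroupEquiv E').symm τ).2
          obtain ⟨i, hi⟩ := hτ
          refine ⟨i, (IntermediateField.fixingSubgroupEquiv E').symm.injective ?_⟩
          refine Eq.trans (map_zpow (IntermediateField.fixingSubgroupEquiv E').symm gen i) ?_
          rw [MulEquiv.symm_apply_apply]
          exact Subtype.ext hi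
        · rw [Ext.mk₀_comp_mk₀_assoc, iota_trans]
          exact hα
      exact ih _ hlt E E' rfl (hP.of_surjective (AlgEquiv.restrictNormalHom E')
        (AlgEquiv.restrictNormalHom_surjective M)) α hE'

theorem nsmul_eq_of_trace (E L M : Type u) [Field E] [Algebra K E] [FiniteDimensional K E] [Algebra.IsSeparable K E]
    [Field L] [Algebra K L] [FiniteDimensional K L] [Algebra.IsSeparable K L]
    [Algebra E L] [IsScalarTower K E L] [FiniteDimensional E L]
    [Field M] [Algebra K M] [FiniteDimensional K M] [Algebra.IsSeparable K M]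
    [Algebra E M] [IsScalarTower K E M] [Normal E M] (ι : L →ₐ[E] M)
    {n : ℕ} (α : Ext (P (K := K) E) F n) (hα : (Ext.mk₀ (iota K E L)).comp α (zero_add n) = 0) :
    Module.finrank E L • α = 0 := by
  have h := congrArg (fun z => (Ext.mk₀ (trace E L M)).comp z (zero_add n)) hα
  rw [Ext.mk₀_comp_mk₀_assoc, trace_iota E L M ι, Ext.comp_zero] at h
  rw [← h]
  induction Module.finrank E L with
  | zero => rw [zero_smul, zero_smul, Ext.mk₀_zero, Ext.zero_comp]
  | succ d ih => rw [succ_nsmul, succ_nsmul, Ext.mk₀_add, Ext.add_comp, ← ih, Ext.mk₀_id_comp]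

/-- Classes of positive degree over a point die on an extension. -/
theorem exists_dies_over (E : Type u) [Field E] [Algebra K E] [FiniteDimensional K E] [Algebra.IsSeparable K E]
    {n : ℕ} (α : Ext (P (K := K) E) F (n + 1)) :
    ∃ (L : Type u) (_ : Field L) (_ : Algebra K L) (_ : FiniteDimensional K L) (_ : Algebra.IsSeparable K L)
      (_ : Algebra E L) (_ : IsScalarTower K E L), (Ext.mk₀ (iota K E L)).comp α (zero_add (n + 1)) = 0 := by
  induction n generalizing F with
  | zero =>
    obtain ⟨y, hy⟩ := EtMVLib.exists_eq_comp_extClass α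
    obtain ⟨φ, rfl⟩ := (Ext.mk₀_bijective _ _).2 y
    let S := EtMVLib.injSES F
    have hS := EtMVLib.injSES_shortExact F
    have : Epi S.g := hS.epi_g
    have : Sheaf.IsLocallySurjective S.g :=
      (Sheaf.isLocallySurjective_iff_epi' (A := AddCommGrpCat.{u + 1}) _).2 inferInstance
    let c : S.X₃.obj.obj (op (obj (K := K) E)) := GalDual.secOf (GalDual.fieldMap K E) _ φ
    have hcov := Presheaf.imageSieve_mem (Spec (CommRingCat.of K)).smallEtaleTopology S.g.hom (U := op (obj (K := K) E)) c
    rw [EtFound.mem_topology_iff] at hcov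
    obtain ⟨V, f, v, ⟨x, hx⟩, -⟩ := hcov (default : Spec (CommRingCat.of E))
    obtain ⟨L, _, _, _, _, ⟨g⟩⟩ := GalDual.exists_field_point v
    let h : Spec (CommRingCat.of L) ⟶ Spec (CommRingCat.of E) := (g ≫ f).left
    let e : E →+* L := (Spec.preimage h).hom
    letI : Algebra E L := e.toAlgebra
    haveI : IsScalarTower K E L := IsScalarTower.of_algebraMap_eq fun r => by
      have w : h ≫ 𝟙 _ ≫ GalDual.fieldMap K E = 𝟙 _ ≫ GalDual.fieldMap K L := MorphismProperty.Over.w (g ≫ f)
      rw [Category.id_comp, Category.id_comp, ← Spec.map_preimage h, ← Spec.map_comp] at w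
      exact (ConcreteCategory.congr_hom (Spec.map_injective w) r).symm
    refine ⟨L, inferInstance, inferInstance, inferInstance, inferInstance, inferInstance, inferInstance, ?_⟩
    have hd : down K E L = g ≫ f := MorphismProperty.Over.Hom.ext (Spec.map_preimage h)
    have hlift : iota K E L ≫ φ =
        (GalDual.secOf (GalDual.fieldMap K L) _).symm ((S.X₂.obj.map g.op).hom x) ≫ S.g := by
      apply GalDual.hom_ext_sec
      rw [secOf_repMap, GalDual.secOf_comp, Equiv.apply_symm_apply]
      refine Eq.trans ?_ (NatTrans.naturality_apply S.g.hom g.op x).symm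
      refine Eq.trans ?_ (congrArg (S.X₃.obj.map g.op).hom hx.symm)
      show rs S.X₃ (down K E L) c = rs S.X₃ g (rs S.X₃ f c)
      rw [hd, rs_comp]
    rw [← hy, ← Ext.comp_assoc_of_second_deg_zero, Ext.mk₀_comp_mk₀, hlift, ← Ext.mk₀_comp_mk₀,
      Ext.comp_assoc_of_second_deg_zero, hS.comp_extClass, Ext.comp_zero]
  | succ n ih =>
    obtain ⟨y, rfl⟩ := EtMVLib.exists_eq_comp_extClass α
    obtain ⟨L, _, _, _, _, _, _, hL⟩ := ih y
    refine ⟨L, inferInstance, inferInstance, inferInstance, inferInstance, inferInstance, inferInstance, ?_⟩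
    rw [← Ext.comp_assoc (Ext.mk₀ (iota K E L)) y _ (zero_add _) rfl (by simp), hL, Ext.zero_comp]

theorem subsingleton_two (hF : CT F) (E : Type u) [Field E] [Algebra K E] [FiniteDimensional K E]
    [Algebra.IsSeparable K E] : Subsingleton (Ext (P (K := K) E) F 2) := by
  refine subsingleton_of_forall_eq 0 fun α => ?_
  obtain ⟨L, _, _, _, _, _, _, hL⟩ := exists_dies_over E α
  haveI : FiniteDimensional E L := FiniteDimensional.right K E L
  haveI : Algebra.IsSeparable E L := Algebra.isSeparable_tower_top_of_isSeparable K E L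
  haveI : IsScalarTower K E (SeparableClosure L) := IsScalarTower.of_algebraMap_eq fun x => by
    rw [IsScalarTower.algebraMap_apply K L (SeparableClosure L), IsScalarTower.algebraMap_apply K E L,
      IsScalarTower.algebraMap_apply E L (SeparableClosure L)]
  let M := IntermediateField.normalClosure E L (SeparableClosure L)
  haveI : IsSepClosure E (SeparableClosure L) := ⟨inferInstance, Algebra.IsSeparable.trans E L _⟩
  haveI : IsGalois E (SeparableClosure L) := IsSepClosure.isGalois
  haveI : Algebra.IsSeparable E M := inferInstance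
  haveI : IsGalois E M := IsGalois.normalClosure E L (SeparableClosure L)
  haveI : FiniteDimensional K M := FiniteDimensional.trans K E M
  haveI : Algebra.IsSeparable K M := Algebra.IsSeparable.trans K E M
  let ι : L →ₐ[E] M := (IsScalarTower.toAlgHom E L (SeparableClosure L)).codRestrict M.toSubalgebra
    fun x => AlgHom.fieldRange_le_normalClosure (IsScalarTower.toAlgHom E L (SeparableClosure L)) ⟨x, rfl⟩
  have hM : (Ext.mk₀ (iota K E M)).comp α (zero_add 2) = 0 := by
    have hc : GalDual.repMap (ι.restrictScalars K) ≫ iota K E L = iota K E M := by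
      rw [repMap_comp]
      congr 1
    rw [← hc, ← Ext.mk₀_comp_mk₀_assoc, hL, Ext.comp_zero]
  by_contra hne
  have hne1 : addOrderOf α ≠ 1 := fun h => hne (AddMonoid.addOrderOf_eq_one_iff.1 h)
  obtain ⟨p, hp, hpdvd⟩ := Nat.exists_prime_and_dvd hne1
  haveI : Fact p.Prime := ⟨hp⟩
  let S : Sylow p (M ≃ₐ[E] M) := default
  let E' := IntermediateField.fixedField (S : Subgroup (M ≃ₐ[E] M))
  haveI : IsGalois E' M := IsGalois.tower_top_of_isGalois E E' M
  haveI : IsScalarTower K E' M := IsScalarTower.of_algebraMap_eq fun x =>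
    rfl
  haveI : FiniteDimensional K E' := FiniteDimensional.trans K E E'
  haveI : Algebra.IsSeparable K E' := Algebra.isSeparable_tower_bot_of_isSeparable K E' M
  have hE' : (Ext.mk₀ (iota K E E')).comp α (zero_add 2) = 0 := by
    refine eq_zero_of_isPGroup hF p _ E' M rfl ?_ _ ?_
    · exact S.isPGroup'.of_equiv ((MulEquiv.subgroupCongr
        (IntermediateField.fixingSubgroup_fixedField (S : Subgroup (M ≃ₐ[E] M))).symm).trans
        (IntermediateField.fixingSubgroupEquiv E'))
    · rw [Ext.mk₀_comp_mk₀_assoc, iota_trans]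
      exact hM
  have hkill := nsmul_eq_of_trace E E' M E'.val α hE'
  have hindex : Module.finrank E E' = (S : Subgroup (M ≃ₐ[E] M)).index := by
    rw [IntermediateField.finrank_eq_fixingSubgroup_index, IntermediateField.fixingSubgroup_fixedField]
  exact S.not_dvd_index (hindex ▸ hpdvd.trans (addOrderOf_dvd_of_nsmul_eq_zero hkill))

theorem CT.next (hF : CT F) : CT (EtMVLib.injSES F).X₃ := by
  have hS := EtMVLib.injSES_shortExact F
  refine ⟨fun L _ _ _ _ => ?_, fun E L _ _ _ _ _ _ _ _ _ _ _ _ b => ?_⟩
  · refine subsingleton_of_forall_eq 0 fun x => ?_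
    obtain ⟨y, hy⟩ := Ext.covariant_sequence_exact₃ _ hS x (rfl : 1 + 1 = 2) ((subsingleton_two hF L).elim _ _)
    haveI : Injective (EtMVLib.injSES F).X₂ := inferInstanceAs (Injective (Injective.under F))
    rw [← hy, Ext.eq_zero_of_injective y, Ext.zero_comp]
  · obtain ⟨y, hy⟩ := Ext.covariant_sequence_exact₃ _ hS (Ext.mk₀ b) (rfl : 0 + 1 = 1) ((hF.h1 E).elim _ _)
    obtain ⟨b', rfl⟩ := (Ext.mk₀_bijective _ _).2 y
    rw [Ext.mk₀_comp_mk₀] at hy
    haveI : Injective (EtMVLib.injSES F).X₂ := inferInstanceAs (Injective (Injective.under F))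
    haveI : Mono (trace (K := K) E L L) := mono_trace
    refine ⟨Injective.factorThru b' (trace E L L) ≫ (EtMVLib.injSES F).g, ?_⟩
    rw [← Category.assoc, Injective.comp_factorThru]
    exact (Ext.mk₀_bijective _ _).1 hy

theorem subsingleton_pos : ∀ (n : ℕ) (F : EtCoh.Ab (Spec (CommRingCat.of K))), CT F →
    ∀ (E : Type u) [Field E] [Algebra K E] [FiniteDimensional K E] [Algebra.IsSeparable K E],
      Subsingleton (Ext (P (K := K) E) F (n + 1)) := by
  intro n
  induction n with
  | zero => intro F hF E _ _ _ _; exact hF.h1 E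
  | succ n ih =>
    intro F hF E _ _ _ _
    refine subsingleton_of_forall_eq 0 fun x => ?_
    obtain ⟨y, rfl⟩ := EtMVLib.exists_eq_comp_extClass x
    rw [(ih _ hF.next E).elim y 0, Ext.zero_comp]

/-- A sheaf with vanishing `H¹` and surjective traces has no cohomology in positive degrees. -/
theorem subsingleton_H (hF : CT F) (n : ℕ) (hn : 1 ≤ n) :
    Subsingleton (EtCoh.H (Spec (CommRingCat.of K)) F n) := by
  obtain ⟨m, rfl⟩ : ∃ m, n = m + 1 := ⟨n - 1, by omega⟩
  refine subsingleton_of_forall_eq 0 fun x => ?_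
  have h := (subsingleton_pos m F hF K).elim
    ((Ext.mk₀ (GalDual.repZTo (GalDual.fieldMap K K))).comp x (zero_add (m + 1))) 0
  exact GalDual.Dies.eq_zero h

end Groth.Agent.DixBrauer.CohTriv
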